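import Cfsg.Agent.H855.EB.Four
import Cfsg.Agent.S2119

/-!
# TEAM EB (S4522, S4515): the alternating groups of degree at least 7 (helper855, task EB-T07)

`evenB_alt`, `evenJ_alt`.
-/

set_option autoImplicit false

namespace Cfsg.Agent.H855.EB

open Cfsg Cfsg.Agent.H610.EB Cfsg.Agent.H684.EB Equiv

universe u v

/-- **The alternating row, `EvenB`.** -/
theorem evenB_of_alt {n : ℕ} (hn : 7 ≤ n) {S : Type u} [Group S] (f : S ≃* alternatingGroup (Fin n)) : EvenB S := by
  classical
  intro G _ _ N hN _ hSN _ _ k hk M hM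
  obtain ⟨f'⟩ := hSN
  let e : alternatingGroup (Fin n) ≃* N := f.symm.trans f'
  let c : Perm (Fin n) ≃* MulAut (alternatingGroup (Fin n)) :=
    MulEquiv.ofBijective MulAut.conjNormal (S2119.result n (by omega) (by omega))
  -- the homomorphism to `S_n`
  let ρ : G →* Perm (Fin n) :=
    (c.symm.toMonoidHom.comp (MulAut.congr e.symm).toMonoidHom).comp (MulAut.conjNormal (H := N))
  have hρ : ∀ t : alternatingGroup (Fin n), ρ (e t : G) = (t : Perm (Fin n)) := by
    intro t
    show c.symm (MulAut.congr e.symm (MulAut.conjNormal (e t : G))) = (t : Perm (Fin n))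
    rw [MulEquiv.symm_apply_eq]
    refine MulEquiv.ext fun x => ?_
    have h1 : (MulAut.congr e.symm (MulAut.conjNormal (e t : G))) x =
        e.symm ((MulAut.conjNormal (e t : G)) (e x)) := rfl
    have h2 : (MulAut.conjNormal (e t : G)) (e x) = e (t * x * t⁻¹) := by
      apply Subtype.ext
      rw [MulAut.conjNormal_apply, map_mul, map_mul, map_inv]
      rfl
    rw [h1, h2, MulEquiv.symm_apply_apply]
    apply Subtype.ext
    show _ = ((MulAut.conjNormal (t : Perm (Fin n)) x : alternatingGroup (Fin n)) : Perm (Fin n))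
    rw [MulAut.conjNormal_apply]
    rfl
  let act : MulAction G (Fin n) := MulAction.compHom (Fin n) ρ
  have hsm : ∀ (g : G) (x : Fin n), g • x = ρ g x := fun _ _ => rfl
  have hcard : Nat.card (Fin n) = n := by rw [Nat.card_eq_fintype_card, Fintype.card_fin]
  refine concl_of_four hM N hk (Fin n) ?_ (by rw [hcard]; omega)
  have h1 : MulAction.IsMultiplyPretransitive (alternatingGroup (Fin n)) (Fin n) 4 := by
    have h2 := alternatingGroup.isMultiplyPretransitive (Fin n)
    exact MulAction.isMultiplyPretransitive_of_le (n := Nat.card (Fin n) - 2) (by rw [hcard]; omega)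
      (by rw [hcard]; omega)
  rw [MulAction.isMultiplyPretransitive_iff] at h1 ⊢
  intro x y
  obtain ⟨t, ht⟩ := h1 (x := x) (y := y)
  refine ⟨e t, ?_⟩
  rw [← ht]
  ext i
  have h3 : (e t • x) i = ρ (e t : G) (x i) := rfl
  have h4 : (t • x) i = (t : Perm (Fin n)) (x i) := rfl
  rw [h3, h4, hρ]

theorem evenB_alt {n : ℕ} (hn : 7 ≤ n) : EvenB (alternatingGroup (Fin n)) :=
  evenB_of_alt hn (MulEquiv.refl _)

/-- The square of every automorphism of `A_n` is inner. -/
theorem sq_inner {n : ℕ} (hn : 7 ≤ n) {S : Type u} [Group S] (f : S ≃* alternatingGroup (Fin n)) (α : S ≃* S) :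
    ∃ j : ℕ, ∃ s : S, ∀ x : S, ((α : MulAut S) ^ 2 ^ j) x = s * x * s⁻¹ := by
  classical
  let c : Perm (Fin n) ≃* MulAut (alternatingGroup (Fin n)) :=
    MulEquiv.ofBijective MulAut.conjNormal (S2119.result n (by omega) (by omega))
  obtain ⟨σ, hσ⟩ := c.surjective (MulAut.congr f (α : MulAut S))
  have h1 : σ ^ 2 ∈ alternatingGroup (Fin n) := by
    rw [Equiv.Perm.mem_alternatingGroup, map_pow]
    exact Int.units_pow_two _
  refine ⟨1, f.symm ⟨σ ^ 2, h1⟩, fun x => ?_⟩
  apply f.injective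
  have h2 : MulAut.congr f ((α : MulAut S) ^ 2) = c (σ ^ 2) := by rw [map_pow, map_pow, hσ]
  have h3 := DFunLike.congr_fun h2 (f x)
  have h4 : (MulAut.congr f ((α : MulAut S) ^ 2)) (f x) = f (((α : MulAut S) ^ 2) x) := by
    show f (((α : MulAut S) ^ 2) (f.symm (f x))) = _
    rw [MulEquiv.symm_apply_apply]
  rw [h4] at h3
  rw [pow_one, h3, map_mul, map_mul, map_inv, MulEquiv.apply_symm_apply]
  apply Subtype.ext
  show ((MulAut.conjNormal (σ ^ 2) (f x) : alternatingGroup (Fin n)) : Perm (Fin n)) = _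
  rw [MulAut.conjNormal_apply]
  rfl

/-- **The alternating row, `EvenJ`.** -/
theorem evenJ_of_alt {n : ℕ} (hn : 7 ≤ n) {S : Type u} [Group S] (f : S ≃* alternatingGroup (Fin n)) : EvenJ S :=
  evenJ_of_inner (sq_inner hn f) (evenB_of_alt hn f)

theorem evenJ_alt {n : ℕ} (hn : 7 ≤ n) : EvenJ (alternatingGroup (Fin n)) :=
  evenJ_of_alt hn (MulEquiv.refl _)

end Cfsg.Agent.H855.EB
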