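import Cfsg.Agent.H855.EB.BR
import Cfsg.Agent.H684.EB.Base
import Cfsg.Agent.H94.IMCPerm

/-!
# TEAM EB (S4522): multiply transitive groups (helper855)

`concl_of_four` : `G` acts on `X`, `4 ≤ |X|`, and the normal subgroup `N` is 4-transitive on `X`; then the conclusion of
S4522 holds for `G` and `N` (no condition on the index of `N`, no faithfulness).  In particular `EvenS` for `M₁₁`,
`M₁₂`, `M₂₃`, `M₂₄`.
-/

set_option autoImplicit false

namespace Cfsg.Agent.H855.EB

open Cfsg Cfsg.Agent.Characters.Core Cfsg.Agent.H610.EB Cfsg.Agent.H852.IMPerm Cfsg.Agent.H94.IMCPerm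
open scoped ComplexConjugate

universe u v

section

variable {G : Type u} [Group G] {X : Type v} [MulAction G X]

theorem smul_pow_of_fix {g : G} {x : X} (h : g • x = x) (m : ℕ) : g ^ m • x = x := by
  induction m with
  | zero => rw [pow_zero, one_smul]
  | succ m ih => rw [pow_succ, mul_smul, h, ih]

theorem fx_pow [Finite G] {k : ℕ} (hk : IsK G k) (g : G) : fx X (g ^ k) = fx X g := by
  unfold fx
  have h1 : MulAction.fixedBy X (g ^ k) = MulAction.fixedBy X g := by
    ext x
    rw [MulAction.mem_fixedBy, MulAction.mem_fixedBy]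
    constructor
    · intro h
      have h2 := smul_pow_of_fix h k
      rwa [hk.pow_pow] at h2
    · exact fun h => smul_pow_of_fix h k
  rw [h1]

variable [Finite X]

theorem nn_eq (g : G) : nn X g = fx X (g * g) - fx X g := by
  rw [fx_sq]
  omega

theorem nn_pow [Finite G] {k : ℕ} (hk : IsK G k) (g : G) : nn X (g ^ k) = nn X g := by
  rw [nn_eq, nn_eq, fx_pow hk, ← pow_two, ← pow_mul, mul_comm k 2, pow_mul, fx_pow hk, pow_two]

theorem nn_of_odd {g : G} (h : Odd (orderOf g)) : nn X g = 0 := by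
  obtain ⟨m, hm⟩ := h
  have h1 : (g * g) ^ (m + 1) = g := by
    rw [← pow_two, ← pow_mul, show 2 * (m + 1) = orderOf g + 1 by omega, pow_add, pow_orderOf_eq_one, one_mul, pow_one]
  have h2 : MulAction.fixedBy X (g * g) = MulAction.fixedBy X g := by
    ext x
    rw [MulAction.mem_fixedBy, MulAction.mem_fixedBy]
    constructor
    · intro h
      have h3 := smul_pow_of_fix h (m + 1)
      rwa [h1] at h3
    · intro h
      rw [mul_smul, h, h]
  rw [nn_eq, fx, fx, h2, Nat.sub_self]

end

/-- The trivial character. -/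
def one (G : Type u) [Group G] [Finite G] : IrrCharacter G := ⟨fun _ => 1, isIrr_one⟩

variable {G : Type u} [Group G] [Fintype G] {M : Ideal AlgInt} {k : ℕ}

/-- **Four-transitive groups.** -/
theorem concl_of_four (hM : IsPModular 2 M) (N : Subgroup G) [Fintype N] (hk : IsK G k) (X : Type v) [MulAction G X]
    [Finite X] (h4 : MulAction.IsMultiplyPretransitive N X 4) (hX : 4 ≤ Nat.card X) : Concl M G N k := by
  have h4G : MulAction.IsMultiplyPretransitive G X 4 := by
    rw [MulAction.isMultiplyPretransitive_iff] at h4 ⊢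
    intro x y
    obtain ⟨g, hg⟩ := h4 (x := x) (y := y)
    exact ⟨(g : G), hg⟩
  obtain ⟨⟨lG, lG1, lGv⟩, ⟨pG, pG1, pGv⟩⟩ := four_val (G := G) X hX
  obtain ⟨⟨lN, lN1, lNv⟩, ⟨pN, pN1, pNv⟩⟩ := four_val (G := N) X hX
  have hfx : ∀ s : N, fx X s = fx X (s : G) := fun s => rfl
  have hnn : ∀ s : N, nn X s = nn X (s : G) := fun s => rfl
  have hl : (fun s : N => (lG : G → ℂ) s) = (lN : N → ℂ) := by
    funext s
    rw [lGv, lNv, hfx, hnn]
  have hp : (fun s : N => (pG : G → ℂ) s) = (pN : N → ℂ) := by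
    funext s
    rw [pGv, pNv, hfx, hnn]
  -- on the `2`-regular elements
  have hreg : ∀ s : G, IsPRegular 2 s → (lG : G → ℂ) s = (pG : G → ℂ) s + 1 := by
    intro s hs
    have h1 : nn X s = 0 := nn_of_odd (Nat.odd_iff.2 (Nat.two_dvd_ne_zero.1 hs))
    rw [lGv, pGv, h1, Nat.cast_zero]
    ring
  have h1c : IsCharacter G (fun _ : G => (1 : ℂ)) := isIrr_isCharacter (one G).2
  have hsp : SameBlock M (lG : G → ℂ) (pG : G → ℂ) := sameBlock_of_reg hM lG pG h1c hreg
  have hs1 : SameBlock M (lG : G → ℂ) (fun _ : G => (1 : ℂ)) :=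
    sameBlock_of_reg hM lG (one G) (isIrr_isCharacter pG.2) fun s hs => by
      rw [hreg s hs, add_comm]
      rfl
  have hlB : lG ∈ principalBlock M G := Blocks.Osima.sameBlock_symm hs1
  have hpB : pG ∈ principalBlock M G :=
    Blocks.Osima.sameBlock_trans hM (Blocks.Osima.sameBlock_symm hs1) hsp
  -- orthogonality with the principal character
  have orth : ∀ χ : IrrCharacter N, (χ : N → ℂ) 1 ≠ 1 → classInner (χ : N → ℂ) (fun _ => 1) = 0 := by
    intro χ hχ
    have h := classInner_irr χ.2 (one N).2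
    rw [if_neg (fun h' => hχ (congrFun h' 1))] at h
    exact h
  obtain ⟨n, hn⟩ : ∃ n, Nat.card X = n + 4 := ⟨Nat.card X - 4, by omega⟩
  have hd1 : (Nat.card X - 1) * (Nat.card X - 2) / 2 = Nat.card X * (Nat.card X - 3) / 2 + 1 := by
    rw [hn, show n + 4 - 1 = n + 3 by omega, show n + 4 - 2 = n + 2 by omega, show n + 4 - 3 = n + 1 by omega,
      show (n + 3) * (n + 2) = (n + 4) * (n + 1) + 2 by ring]
    omega
  have hd2 : 2 ≤ Nat.card X * (Nat.card X - 3) / 2 := by
    rw [hn, show n + 4 - 3 = n + 1 by omega, Nat.le_div_iff_mul_le (by norm_num)]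
    nlinarith
  rcases Nat.even_or_odd (Nat.card X * (Nat.card X - 3) / 2) with he | ho
  · refine ⟨pG, hpB, ?_, ?_, ?_⟩
    · rw [charDegree, pG1, Complex.natCast_re, Nat.floor_natCast]
      exact he
    · intro g
      rw [pGv, pGv, fx_pow hk, nn_pow hk]
    · rw [hp]
      refine orth pN fun h => ?_
      rw [pN1] at h
      have : Nat.card X * (Nat.card X - 3) / 2 = 1 := by exact_mod_cast h
      omega
  · refine ⟨lG, hlB, ?_, ?_, ?_⟩
    · rw [charDegree, lG1, hd1, Complex.natCast_re, Nat.floor_natCast]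
      exact ho.add_one
    · intro g
      rw [lGv, lGv, fx_pow hk, nn_pow hk]
    · rw [hl]
      refine orth lN fun h => ?_
      rw [lN1, hd1] at h
      have : Nat.card X * (Nat.card X - 3) / 2 + 1 = 1 := by exact_mod_cast h
      omega

end Cfsg.Agent.H855.EB
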